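import Mathlib
import Groth.Agent.NoetherNormZ.Basic
import Groth.Agent.EGA41Lib.IntDim

/-!
# Noether normalization adapted to a chain of primes
-/

set_option autoImplicit false

universe u

open MvPolynomial

namespace Groth.Agent.NNAdapt

variable {k : Type u} [Field k]

theorem dim_mv (n : ℕ) : ringKrullDim (MvPolynomial (Fin n) k) = n := by
  rw [MvPolynomial.ringKrullDim_of_isNoetherianRing, ringKrullDim_eq_zero_of_field, zero_add, Nat.card_fin]

theorem dim_quot_comap {R A : Type u} [CommRing R] [CommRing A] (φ : R →+* A) (hφ : φ.Finite) (q : Ideal A) :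
    ringKrullDim (A ⧸ q) = ringKrullDim (R ⧸ q.comap φ) := by
  letI := (Ideal.quotientMap q φ le_rfl).toAlgebra
  have hfin : (Ideal.quotientMap q φ le_rfl).Finite := by
    refine RingHom.Finite.of_comp_finite (f := Ideal.Quotient.mk (q.comap φ)) ?_
    rw [Ideal.quotientMap_comp_mk]
    exact (RingHom.Finite.of_surjective _ Ideal.Quotient.mk_surjective).comp hφ
  haveI : Module.Finite (R ⧸ q.comap φ) (A ⧸ q) := hfin
  haveI : Algebra.IsIntegral (R ⧸ q.comap φ) (A ⧸ q) := inferInstance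
  exact EGA41Lib.ringKrullDim_eq_of_integral Ideal.quotientMap_injective

theorem eq_bot_of_dim {n : ℕ} {P : Ideal (MvPolynomial (Fin n) k)}
    (h : (n : WithBot ℕ∞) ≤ ringKrullDim (MvPolynomial (Fin n) k ⧸ P)) : P = ⊥ := by
  by_contra hne
  obtain ⟨a, ha, ha0⟩ := Submodule.exists_mem_ne_zero_of_ne_bot hne
  have h1 : ringKrullDim (MvPolynomial (Fin n) k ⧸ Ideal.span {a}) + 1 ≤ ringKrullDim (MvPolynomial (Fin n) k) :=
    ringKrullDim_quotient_succ_le_of_nonZeroDivisor (mem_nonZeroDivisors_of_ne_zero ha0)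
  have h2 : ringKrullDim (MvPolynomial (Fin n) k ⧸ P) ≤ ringKrullDim (MvPolynomial (Fin n) k ⧸ Ideal.span {a}) :=
    ringKrullDim_le_of_surjective (Ideal.Quotient.factor ((Ideal.span_singleton_le_iff_mem P).2 ha))
      (Ideal.Quotient.factor_surjective _)
  rw [dim_mv] at h1
  have h3 : (n : WithBot ℕ∞) + 1 ≤ n := le_trans (by gcongr; exact le_trans h h2) h1
  have h4 : ((n + 1 : ℕ) : WithBot ℕ∞) ≤ (n : ℕ) := by simpa using h3
  exact absurd (Nat.cast_le.1 h4) (by omega)

theorem injective_of_finite {A : Type u} [CommRing A] {n : ℕ} (φ : MvPolynomial (Fin n) k →+* A)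
    (hφ : φ.Finite) (hA : ringKrullDim A = n) : Function.Injective φ := by
  rw [RingHom.injective_iff_ker_eq_bot]
  refine eq_bot_of_dim ?_
  rw [RingHom.ker_eq_comap_bot, ← dim_quot_comap φ hφ, ringKrullDim_eq_of_ringEquiv (RingEquiv.quotientBot A), hA]

theorem finite_of_integral {n : ℕ} {A : Type u} [CommRing A] [Algebra k A] [Algebra.FiniteType k A]
    (ψ : MvPolynomial (Fin n) k →ₐ[k] A) (h : ∀ a, ψ.toRingHom.IsIntegralElem a) : ψ.toRingHom.Finite := by
  refine RingHom.IsIntegral.to_finite h ?_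
  refine RingHom.FiniteType.of_comp_finiteType (f := algebraMap k (MvPolynomial (Fin n) k)) ?_
  rw [show ψ.toRingHom.comp (algebraMap k (MvPolynomial (Fin n) k)) = algebraMap k A from ψ.comp_algebraMap]
  exact RingHom.finiteType_algebraMap.mpr inferInstance

theorem finite_of_generators {n m : ℕ} (ψ : MvPolynomial (Fin n) k →ₐ[k] MvPolynomial (Fin m) k)
    (g : MvPolynomial (Fin m) k →ₐ[k] MvPolynomial (Fin m) k) (hg : Function.Surjective g)
    (h : ∀ j, ψ.toRingHom.IsIntegralElem (g (X j))) : ψ.toRingHom.Finite := by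
  refine finite_of_integral ψ fun a => ?_
  obtain ⟨b, rfl⟩ := hg a
  induction b using MvPolynomial.induction_on with
  | C c =>
    have : g (C c) = ψ.toRingHom (C c) := by
      simp [← MvPolynomial.algebraMap_eq]
    rw [this]; exact RingHom.isIntegralElem_map _
  | add p q hp hq => rw [map_add]; exact RingHom.IsIntegralElem.add _ hp hq
  | mul_X p j hp => rw [map_mul]; exact RingHom.IsIntegralElem.mul _ hp (h j)

theorem exists_step {n : ℕ} (f : MvPolynomial (Fin (n + 1)) k) (hf : f ≠ 0) (hu : ¬ IsUnit f) :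
    ∃ ψ : MvPolynomial (Fin (n + 1)) k →ₐ[k] MvPolynomial (Fin (n + 1)) k,
      ψ.toRingHom.Finite ∧ ψ (X 0) = f := by
  let g := (NoetherNormZ.T f).symm
  let ψ : MvPolynomial (Fin (n + 1)) k →ₐ[k] MvPolynomial (Fin (n + 1)) k :=
    aeval (Fin.cases f fun i => g (X i.succ))
  refine ⟨ψ, finite_of_generators ψ g.toAlgHom g.surjective ?_, by simp [ψ]⟩
  intro j
  refine Fin.cases ?_ (fun i => ?_) j
  swap
  · rw [show g.toAlgHom (X i.succ) = ψ.toRingHom (X i.succ) by simp [ψ]]
    exact RingHom.isIntegralElem_map _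
  let P : Polynomial (MvPolynomial (Fin n) k) := finSuccEquiv k n (NoetherNormZ.T f f)
  have hlu : IsUnit P.leadingCoeff := NoetherNormZ.T_leadingcoeff_isUnit f hf
  have hdeg : 0 < P.natDegree := by
    by_contra h0
    have hP : P = Polynomial.C P.leadingCoeff := by
      rw [Polynomial.leadingCoeff]
      have : P.natDegree = 0 := by omega
      rw [this]
      exact Polynomial.eq_C_of_natDegree_eq_zero this
    have hPu : IsUnit P := by rw [hP]; exact hlu.map Polynomial.C
    apply hu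
    have := hPu.map (finSuccEquiv k n).symm
    rw [show (finSuccEquiv k n).symm P = NoetherNormZ.T f f from (finSuccEquiv k n).symm_apply_apply _] at this
    have h2 := this.map g
    rwa [show g (NoetherNormZ.T f f) = f from (NoetherNormZ.T f).symm_apply_apply _] at h2
  let ι : MvPolynomial (Fin n) k →+* MvPolynomial (Fin (n + 1)) k := (rename Fin.succ).toRingHom
  obtain ⟨u, hu'⟩ := hlu
  let P₁ : Polynomial (MvPolynomial (Fin (n + 1)) k) := (Polynomial.C (↑u⁻¹ : MvPolynomial (Fin n) k) * P).map ι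
  have hmon0 : (Polynomial.C (↑u⁻¹ : MvPolynomial (Fin n) k) * P).Monic := by
    rw [Polynomial.Monic, Polynomial.leadingCoeff_mul, Polynomial.leadingCoeff_C, ← hu']
    exact u.inv_mul
  have hnd : P₁.natDegree = P.natDegree := by
    rw [hmon0.natDegree_map, Polynomial.natDegree_C_mul_of_isUnit (Units.isUnit u⁻¹)]
  refine ⟨P₁ - Polynomial.C (ι ↑u⁻¹ * X 0), ?_, ?_⟩
  · refine (hmon0.map ι).sub_of_left ?_
    refine lt_of_le_of_lt Polynomial.degree_C_le ?_
    rw [Polynomial.degree_eq_natDegree (hmon0.map ι).ne_zero]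
    exact_mod_cast hnd ▸ hdeg
  · have key : ∀ Q : Polynomial (MvPolynomial (Fin n) k),
        Polynomial.eval₂ (ψ.toRingHom.comp ι) (g (X 0)) Q = g ((finSuccEquiv k n).symm Q) := by
      intro Q
      have : (Polynomial.eval₂RingHom (ψ.toRingHom.comp ι) (g (X 0))) =
          (g.toAlgHom.comp (finSuccEquiv k n).symm.toAlgHom).toRingHom := by
        refine Polynomial.ringHom_ext (fun c => ?_) ?_
        · simp only [Polynomial.coe_eval₂RingHom, Polynomial.eval₂_C]
          show ψ (rename Fin.succ c) = g ((finSuccEquiv k n).symm (Polynomial.C c))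
          have h2 : (ψ.comp (rename Fin.succ)) = (g.toAlgHom.comp ((finSuccEquiv k n).symm.toAlgHom.comp
              ((Algebra.ofId (MvPolynomial (Fin n) k) (Polynomial (MvPolynomial (Fin n) k))).restrictScalars k))) := by
            refine MvPolynomial.algHom_ext fun i => ?_
            have h1 : (finSuccEquiv k n).symm (Polynomial.C (X i)) = X i.succ := by
              rw [AlgEquiv.symm_apply_eq, finSuccEquiv_X_succ]
            simpa [ψ, rename_X] using congrArg g h1.symm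
          exact AlgHom.congr_fun h2 c
        · simp only [Polynomial.coe_eval₂RingHom, Polynomial.eval₂_X]
          show g (X 0) = g ((finSuccEquiv k n).symm Polynomial.X)
          rw [show (finSuccEquiv k n).symm Polynomial.X = X 0 by
            rw [AlgEquiv.symm_apply_eq, finSuccEquiv_X_zero]]
      exact RingHom.congr_fun this Q
    have hgP : g ((finSuccEquiv k n).symm P) = f := by
      rw [show (finSuccEquiv k n).symm P = NoetherNormZ.T f f from (finSuccEquiv k n).symm_apply_apply _]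
      exact (NoetherNormZ.T f).symm_apply_apply _
    show Polynomial.eval₂ ψ.toRingHom (g (X 0)) _ = 0
    simp only [P₁, Polynomial.eval₂_sub, Polynomial.eval₂_C, Polynomial.eval₂_map, Polynomial.eval₂_mul,
      key P, hgP, RingHom.comp_apply, map_mul]
    simp [ψ]

/-- The ideal generated by the first `h` variables. -/
noncomputable def XI (k : Type u) [Field k] (n h : ℕ) : Ideal (MvPolynomial (Fin n) k) :=
  Ideal.span (X '' {l : Fin n | (l : ℕ) < h})

theorem XI_zero (n : ℕ) : XI k n 0 = ⊥ := by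
  simp [XI]

/-- forget the first variable -/
noncomputable def pr (n : ℕ) : MvPolynomial (Fin (n + 1)) k →ₐ[k] MvPolynomial (Fin n) k :=
  aeval (Fin.cases 0 X)

theorem pr_rename {n : ℕ} (x : MvPolynomial (Fin n) k) : pr n (rename Fin.succ x) = x := by
  have : (pr n).comp (rename Fin.succ) = AlgHom.id k (MvPolynomial (Fin n) k) :=
    MvPolynomial.algHom_ext fun i => by simp [pr]
  exact AlgHom.congr_fun this x

theorem sub_rename_pr_mem {n : ℕ} (x : MvPolynomial (Fin (n + 1)) k) :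
    x - rename Fin.succ (pr n x) ∈ Ideal.span {(X 0 : MvPolynomial (Fin (n + 1)) k)} := by
  rw [← Ideal.Quotient.eq_zero_iff_mem, map_sub, sub_eq_zero]
  have : (Ideal.Quotient.mkₐ k (Ideal.span {(X 0 : MvPolynomial (Fin (n + 1)) k)})) =
      (Ideal.Quotient.mkₐ k (Ideal.span {(X 0 : MvPolynomial (Fin (n + 1)) k)})).comp
        ((rename Fin.succ).comp (pr n)) := by
    refine MvPolynomial.algHom_ext fun i => ?_
    refine Fin.cases ?_ (fun j => ?_) i
    · simp [pr, Ideal.Quotient.eq_zero_iff_mem, Ideal.mem_span_singleton_self]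
    · simp [pr]
  exact AlgHom.congr_fun this x

theorem comap_pr_XI (n h : ℕ) : (XI k n h).comap (pr n) = XI k (n + 1) (h + 1) := by
  refine le_antisymm (fun x hx => ?_) ?_
  · rw [← sub_add_cancel x (rename Fin.succ (pr n x))]
    refine Ideal.add_mem _ ?_ ?_
    · refine (Ideal.span_le.2 ?_) (sub_rename_pr_mem x)
      rw [Set.singleton_subset_iff]
      exact Ideal.subset_span ⟨0, by simp, rfl⟩
    · have h1 : (XI k n h).map (rename Fin.succ : MvPolynomial (Fin n) k →ₐ[k] _) ≤ XI k (n + 1) (h + 1) := by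
        rw [XI, Ideal.map_span, Ideal.span_le]
        rintro _ ⟨_, ⟨l, hl, rfl⟩, rfl⟩
        exact Ideal.subset_span ⟨l.succ, by simpa using hl, by simp⟩
      exact h1 (Ideal.mem_map_of_mem _ hx)
  · rw [XI, Ideal.span_le]
    rintro _ ⟨l, hl, rfl⟩
    show pr n (X l) ∈ XI k n h
    revert hl
    refine Fin.cases ?_ (fun j => ?_) l
    · intro; simp [pr]
    · intro hj
      exact Ideal.subset_span ⟨j, by simpa using hj, by simp [pr]⟩

theorem pr_finite (n : ℕ) : (pr (k := k) n).toRingHom.Finite :=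
  RingHom.Finite.of_surjective _ fun x => ⟨rename Fin.succ x, pr_rename x⟩

/-- extend an endomorphism by fixing the first variable -/
noncomputable def ext1 {n : ℕ} (χ : MvPolynomial (Fin n) k →ₐ[k] MvPolynomial (Fin n) k) :
    MvPolynomial (Fin (n + 1)) k →ₐ[k] MvPolynomial (Fin (n + 1)) k :=
  aeval (Fin.cases (X 0) fun i => rename Fin.succ (χ (X i)))

theorem pr_comp_ext1 {n : ℕ} (χ : MvPolynomial (Fin n) k →ₐ[k] MvPolynomial (Fin n) k) :
    (pr n).comp (ext1 χ) = χ.comp (pr n) := by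
  refine MvPolynomial.algHom_ext fun i => ?_
  refine Fin.cases ?_ (fun j => ?_) i
  · simp [pr, ext1]
  · show pr n (ext1 χ (X j.succ)) = χ (pr n (X j.succ))
    rw [ext1, aeval_X, Fin.cases_succ, pr_rename, pr, aeval_X, Fin.cases_succ]

theorem ext1_finite {n : ℕ} (χ : MvPolynomial (Fin n) k →ₐ[k] MvPolynomial (Fin n) k)
    (hχ : χ.toRingHom.Finite) : (ext1 χ).toRingHom.Finite := by
  refine finite_of_generators (ext1 χ) (AlgHom.id k _) (fun x => ⟨x, rfl⟩) fun j => ?_
  refine Fin.cases ?_ (fun i => ?_) j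
  · rw [show AlgHom.id k (MvPolynomial (Fin (n + 1)) k) (X 0) = (ext1 χ).toRingHom (X 0) by simp [ext1]]
    exact RingHom.isIntegralElem_map _
  · obtain ⟨p, hp, he⟩ := hχ.to_isIntegral (X i)
    refine ⟨p.map (rename Fin.succ : MvPolynomial (Fin n) k →ₐ[k] MvPolynomial (Fin (n + 1)) k).toRingHom,
      hp.map _, ?_⟩
    rw [Polynomial.eval₂_map]
    have hc : (ext1 χ).comp (rename Fin.succ) = (rename Fin.succ).comp χ :=
      MvPolynomial.algHom_ext fun l => by simp [ext1]
    have hc' : (ext1 χ).toRingHom.comp (rename Fin.succ : MvPolynomial (Fin n) k →ₐ[k] _).toRingHom =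
        (rename Fin.succ : MvPolynomial (Fin n) k →ₐ[k] _).toRingHom.comp χ.toRingHom :=
      congrArg AlgHom.toRingHom hc
    rw [hc', show AlgHom.id k (MvPolynomial (Fin (n + 1)) k) (X i.succ) =
      (rename Fin.succ : MvPolynomial (Fin n) k →ₐ[k] _).toRingHom (X i) by simp,
      ← Polynomial.hom_eval₂, he, map_zero]

theorem dim_bot (n : ℕ) :
    ringKrullDim (MvPolynomial (Fin n) k ⧸ (⊥ : Ideal (MvPolynomial (Fin n) k))) = n := by
  refine le_antisymm ?_ ?_
  · exact le_trans (ringKrullDim_le_of_surjective (Ideal.Quotient.mk ⊥) Ideal.Quotient.mk_surjective)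
      (le_of_eq (dim_mv n))
  · refine le_trans (le_of_eq (dim_mv (k := k) n).symm) ?_
    exact ringKrullDim_le_of_surjective (Ideal.Quotient.lift (⊥ : Ideal (MvPolynomial (Fin n) k))
      (RingHom.id _) fun a ha => ha) fun a => ⟨Ideal.Quotient.mk ⊥ a, rfl⟩

theorem comap_pr_comap_rename {n : ℕ} {P : Ideal (MvPolynomial (Fin (n + 1)) k)}
    (hP : (X 0 : MvPolynomial (Fin (n + 1)) k) ∈ P) :
    (P.comap (rename Fin.succ : MvPolynomial (Fin n) k →ₐ[k] _)).comap (pr n) = P := by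
  ext x
  have hmem : x - rename Fin.succ (pr n x) ∈ P :=
    (Ideal.span_singleton_le_iff_mem _).2 hP (sub_rename_pr_mem x)
  simp only [Ideal.mem_comap]
  exact ⟨fun hx => by simpa using Ideal.add_mem _ hmem hx, fun hx => by simpa using Ideal.sub_mem _ hx hmem⟩

theorem exists_reduced {n : ℕ} (ψ : MvPolynomial (Fin (n + 1)) k →ₐ[k] MvPolynomial (Fin (n + 1)) k)
    (hψ : ψ.toRingHom.Finite) (p : Ideal (MvPolynomial (Fin (n + 1)) k)) (hp : p.IsPrime) (hm : ψ (X 0) ∈ p)
    (c : ℕ) (hc : 1 ≤ c)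
    (hd : ringKrullDim (MvPolynomial (Fin (n + 1)) k ⧸ p) = ((n + 1 - c : ℕ) : WithBot ℕ∞)) :
    ((p.comap ψ).comap (rename Fin.succ : MvPolynomial (Fin n) k →ₐ[k] _)).IsPrime ∧
      ((p.comap ψ).comap (rename Fin.succ : MvPolynomial (Fin n) k →ₐ[k] _)).comap (pr n) = p.comap ψ ∧
      ringKrullDim (MvPolynomial (Fin n) k ⧸ (p.comap ψ).comap (rename Fin.succ : MvPolynomial (Fin n) k →ₐ[k] _))
        = ((n - (c - 1) : ℕ) : WithBot ℕ∞) := by
  have h0 := comap_pr_comap_rename (n := n) (P := p.comap ψ) hm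
  refine ⟨inferInstance, h0, ?_⟩
  rw [show n - (c - 1) = n + 1 - c by omega, ← hd]
  refine (dim_quot_comap _ (pr_finite n) _).trans ?_
  refine Eq.trans ?_ (dim_quot_comap _ hψ p).symm
  exact congrArg (fun I : Ideal (MvPolynomial (Fin (n + 1)) k) => ringKrullDim (MvPolynomial (Fin (n + 1)) k ⧸ I)) h0

/-- the reduced ideal -/
noncomputable def red {n r : ℕ} (ψ : MvPolynomial (Fin (n + 1)) k →ₐ[k] MvPolynomial (Fin (n + 1)) k)
    (p : Fin r → Ideal (MvPolynomial (Fin (n + 1)) k)) (h : Fin r → ℕ) (i : Fin r) :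
    Ideal (MvPolynomial (Fin n) k) :=
  if h i = 0 then ⊥ else ((p i).comap ψ).comap (rename Fin.succ : MvPolynomial (Fin n) k →ₐ[k] _)

theorem eq_zero_of_bot {n r : ℕ} {p : Fin r → Ideal (MvPolynomial (Fin (n + 1)) k)} {h : Fin r → ℕ}
    (hh : ∀ i, h i ≤ n + 1)
    (hd : ∀ i, ringKrullDim (MvPolynomial (Fin (n + 1)) k ⧸ p i) = ((n + 1 - h i : ℕ) : WithBot ℕ∞))
    (i : Fin r) (hpi : p i = ⊥) : h i = 0 := by
  have h1 := hd i
  rw [hpi, dim_bot] at h1
  have h2 : n + 1 = n + 1 - h i := by exact_mod_cast h1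
  have := hh i
  omega

theorem comap_ext_eq {n : ℕ} (ψ : MvPolynomial (Fin (n + 1)) k →ₐ[k] MvPolynomial (Fin (n + 1)) k)
    (χ : MvPolynomial (Fin n) k →ₐ[k] MvPolynomial (Fin n) k) (p : Ideal (MvPolynomial (Fin (n + 1)) k))
    (q : Ideal (MvPolynomial (Fin n) k)) (hq : q.comap (pr n) = p.comap ψ) (c : ℕ)
    (hχ : q.comap χ = XI k n c) : p.comap (ψ.comp (ext1 χ)) = XI k (n + 1) (c + 1) := by
  have e1 : p.comap (ψ.comp (ext1 χ)) = (p.comap ψ).comap (ext1 χ) := rfl
  have e2 : (q.comap (pr n)).comap (ext1 χ) = q.comap ((pr n).comp (ext1 χ)) := rfl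
  have e3 : q.comap (χ.comp (pr n)) = (q.comap χ).comap (pr n) := rfl
  rw [e1, ← hq, e2, pr_comp_ext1, e3, hχ, comap_pr_XI]

theorem adapt_succ {n r : ℕ}
    (ih : ∀ (p : Fin r → Ideal (MvPolynomial (Fin n) k)) (h : Fin r → ℕ),
      (∀ i, (p i).IsPrime) → Monotone p → (∀ i, h i ≤ n) →
      (∀ i, ringKrullDim (MvPolynomial (Fin n) k ⧸ p i) = ((n - h i : ℕ) : WithBot ℕ∞)) →
      ∃ φ : MvPolynomial (Fin n) k →ₐ[k] MvPolynomial (Fin n) k,
        φ.toRingHom.Finite ∧ ∀ i, (p i).comap φ = XI k n (h i))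
    (p : Fin r → Ideal (MvPolynomial (Fin (n + 1)) k)) (h : Fin r → ℕ) (hp : ∀ i, (p i).IsPrime)
    (hmono : Monotone p) (hh : ∀ i, h i ≤ n + 1)
    (hd : ∀ i, ringKrullDim (MvPolynomial (Fin (n + 1)) k ⧸ p i) = ((n + 1 - h i : ℕ) : WithBot ℕ∞))
    (f : MvPolynomial (Fin (n + 1)) k) (hfp : ∀ i, h i ≠ 0 → f ∈ p i)
    (ψ : MvPolynomial (Fin (n + 1)) k →ₐ[k] MvPolynomial (Fin (n + 1)) k)
    (hψ : ψ.toRingHom.Finite) (hψ0 : ψ (X 0) = f) :
    ∃ φ : MvPolynomial (Fin (n + 1)) k →ₐ[k] MvPolynomial (Fin (n + 1)) k,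
      φ.toRingHom.Finite ∧ ∀ i, (p i).comap φ = XI k (n + 1) (h i) := by
  have hbot : ∀ i, h i = 0 → p i = ⊥ := fun i h0 =>
    eq_bot_of_dim (le_of_eq (by rw [hd i, h0, Nat.sub_zero]))
  have hr : ∀ i, h i ≠ 0 → _ := fun i hi =>
    exists_reduced ψ hψ (p i) (hp i) (hψ0 ▸ hfp i hi) (h i) (Nat.one_le_iff_ne_zero.2 hi) (hd i)
  have hqp : ∀ i, (red ψ p h i).IsPrime := fun i => by
    unfold red
    split_ifs with hi
    · exact Ideal.isPrime_bot
    · exact (hr i hi).1
  have hqm : Monotone (red ψ p h) := by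
    intro i j hij
    unfold red
    split_ifs with h1 h2 h2
    · exact le_rfl
    · exact bot_le
    · exact absurd (eq_zero_of_bot hh hd i (le_bot_iff.1 ((hmono hij).trans (hbot j h2).le))) h1
    · exact Ideal.comap_mono (Ideal.comap_mono (hmono hij))
  have hqd : ∀ i, ringKrullDim (MvPolynomial (Fin n) k ⧸ red ψ p h i) = ((n - (h i - 1) : ℕ) : WithBot ℕ∞) := by
    intro i
    by_cases hi : h i = 0
    · rw [show red ψ p h i = ⊥ from if_pos hi, dim_bot, hi]
      simp
    · rw [show red ψ p h i = ((p i).comap ψ).comap (rename Fin.succ : MvPolynomial (Fin n) k →ₐ[k] _) from if_neg hi]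
      exact (hr i hi).2.2
  obtain ⟨χ, hχ, hχc⟩ := ih (red ψ p h) (fun i => h i - 1) hqp hqm (fun i => by have := hh i; omega) hqd
  refine ⟨ψ.comp (ext1 χ), hψ.comp (ext1_finite χ hχ), fun i => ?_⟩
  by_cases hi : h i = 0
  · rw [hi, XI_zero, hbot i hi]
    exact Ideal.comap_bot_of_injective _
      (injective_of_finite (ψ.comp (ext1 χ)).toRingHom (hψ.comp (ext1_finite χ hχ)) (dim_mv (n + 1)))
  · have := comap_ext_eq ψ χ (p i) (red ψ p h i) (by unfold red; rw [if_neg hi]; exact (hr i hi).2.1)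
      (h i - 1) (hχc i)
    rwa [Nat.sub_add_cancel (Nat.one_le_iff_ne_zero.2 hi)] at this

theorem comap_id_eq (n : ℕ) (p : Ideal (MvPolynomial (Fin n) k)) : p.comap (AlgHom.id k _) = p :=
  Ideal.ext fun _ => Iff.rfl

theorem adapt : ∀ (n r : ℕ) (p : Fin r → Ideal (MvPolynomial (Fin n) k)) (h : Fin r → ℕ),
    (∀ i, (p i).IsPrime) → Monotone p → (∀ i, h i ≤ n) →
    (∀ i, ringKrullDim (MvPolynomial (Fin n) k ⧸ p i) = ((n - h i : ℕ) : WithBot ℕ∞)) →
    ∃ φ : MvPolynomial (Fin n) k →ₐ[k] MvPolynomial (Fin n) k,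
      φ.toRingHom.Finite ∧ ∀ i, (p i).comap φ = XI k n (h i) := by
  intro n
  induction n with
  | zero =>
    intro r p h hp _ hh hd
    refine ⟨AlgHom.id k _, RingHom.Finite.id _, fun i => ?_⟩
    have h0 : h i = 0 := by have := hh i; omega
    rw [comap_id_eq, h0, XI_zero]
    exact eq_bot_of_dim (le_of_eq (by rw [hd i, h0]))
  | succ n ih =>
    intro r p h hp hmono hh hd
    by_cases hall : ∀ i, h i = 0
    · refine ⟨AlgHom.id k _, RingHom.Finite.id _, fun i => ?_⟩
      rw [comap_id_eq, hall i, XI_zero]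
      exact eq_bot_of_dim (le_of_eq (by rw [hd i, hall i, Nat.sub_zero]))
    push Not at hall
    obtain ⟨i1, hi1⟩ := hall
    obtain ⟨i0, hi0m, hmin0⟩ := Finset.exists_min_image (Finset.univ.filter fun i => h i ≠ 0) id
      ⟨i1, by simp [hi1]⟩
    have hi0 : h i0 ≠ 0 := (Finset.mem_filter.1 hi0m).2
    have hne : p i0 ≠ ⊥ := fun he => hi0 (eq_zero_of_bot hh hd i0 he)
    obtain ⟨f, hfp, hf0⟩ := Submodule.exists_mem_ne_zero_of_ne_bot hne
    obtain ⟨ψ, hψ, hψ0⟩ := exists_step f hf0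
      fun hu => (hp i0).ne_top (Ideal.eq_top_of_isUnit_mem _ hfp hu)
    exact adapt_succ (ih r) p h hp hmono hh hd f
      (fun i hi => hmono (hmin0 i (by simp [hi])) hfp) ψ hψ hψ0

end Groth.Agent.NNAdapt
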