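import Mathlib
import Groth.Agent.NNAdapt.Basic

/-!
# Filling in a chain of primes over the coordinate flag
-/

set_option autoImplicit false

universe u

open MvPolynomial

namespace Groth.Agent.NNAdapt

variable {k : Type u} [Field k]

/-- forget the first `h` variables -/
noncomputable def proj (k : Type u) [Field k] (n h : ℕ) :
    MvPolynomial (Fin n) k →ₐ[k] MvPolynomial {l : Fin n // ¬ (l : ℕ) < h} k :=
  aeval fun l => if hl : (l : ℕ) < h then 0 else X ⟨l, hl⟩

theorem proj_rename (n h : ℕ) (x : MvPolynomial {l : Fin n // ¬ (l : ℕ) < h} k) :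
    proj k n h (rename Subtype.val x) = x := by
  have : (proj k n h).comp (rename Subtype.val) = AlgHom.id k _ :=
    MvPolynomial.algHom_ext fun l => by simp [proj, l.2]
  exact AlgHom.congr_fun this x

theorem proj_surjective (n h : ℕ) : Function.Surjective (proj k n h).toRingHom :=
  fun x => ⟨rename Subtype.val x, proj_rename n h x⟩

theorem sub_rename_proj_mem (n h : ℕ) (x : MvPolynomial (Fin n) k) :
    x - rename Subtype.val (proj k n h x) ∈ XI k n h := by
  rw [← Ideal.Quotient.eq_zero_iff_mem, map_sub, sub_eq_zero]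
  have : Ideal.Quotient.mkₐ k (XI k n h) =
      (Ideal.Quotient.mkₐ k (XI k n h)).comp ((rename Subtype.val).comp (proj k n h)) := by
    refine MvPolynomial.algHom_ext fun l => ?_
    by_cases hl : (l : ℕ) < h
    · have hx : (X l : MvPolynomial (Fin n) k) ∈ XI k n h := Ideal.subset_span ⟨l, hl, rfl⟩
      simp [proj, hl, Ideal.Quotient.eq_zero_iff_mem, hx]
    · simp [proj, hl]
  exact AlgHom.congr_fun this x

theorem ker_proj (n h : ℕ) : RingHom.ker (proj k n h).toRingHom = XI k n h := by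
  refine le_antisymm (fun x hx => ?_) ?_
  · have := sub_rename_proj_mem n h x
    rwa [show proj k n h x = 0 from hx, map_zero, sub_zero] at this
  · rw [XI, Ideal.span_le]
    rintro _ ⟨l, hl, rfl⟩
    show proj k n h (X l) = 0
    rw [proj, aeval_X, dif_pos (show (l : ℕ) < h from hl)]

theorem XI_isPrime (n h : ℕ) : (XI k n h).IsPrime := by
  rw [← ker_proj]
  exact RingHom.ker_isPrime _

theorem XI_mono {n a b : ℕ} (h : a ≤ b) : XI k n a ≤ XI k n b :=
  Ideal.span_mono (Set.image_mono fun _ hl => lt_of_lt_of_le hl h)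

theorem X_not_mem_XI {n h : ℕ} (l : Fin n) (hl : ¬ (l : ℕ) < h) : (X l : MvPolynomial (Fin n) k) ∉ XI k n h := by
  rw [← ker_proj, RingHom.mem_ker]
  show proj k n h (X l) ≠ 0
  rw [proj, aeval_X, dif_neg hl]
  exact X_ne_zero _

theorem quotient_XI_normal (n h : ℕ) : IsIntegrallyClosed (MvPolynomial (Fin n) k ⧸ XI k n h) := by
  rw [← ker_proj]
  exact IsIntegrallyClosed.of_equiv
    (RingHom.quotientKerEquivOfSurjective (proj_surjective n h)).symm

theorem going_down {R A : Type u} [CommRing R] [CommRing A] [Algebra R A] [Algebra.IsIntegral R A]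
    (B U : Ideal A) [B.IsPrime] [U.IsPrime] (P : Ideal R) [P.IsPrime] (hBU : B ≤ U)
    (hB : B.comap (algebraMap R A) ≤ P) (hP : P ≤ U.comap (algebraMap R A))
    (hn : IsIntegrallyClosed (R ⧸ B.comap (algebraMap R A))) :
    ∃ Q : Ideal A, Q.IsPrime ∧ B ≤ Q ∧ Q ≤ U ∧ Q.comap (algebraMap R A) = P := by
  set I := B.comap (algebraMap R A) with hI
  letI : Algebra (R ⧸ I) (A ⧸ B) := (Ideal.quotientMap B (algebraMap R A) le_rfl).toAlgebra
  haveI : IsScalarTower R (R ⧸ I) (A ⧸ B) := IsScalarTower.of_algebraMap_eq fun a => rfl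
  haveI : Algebra.IsIntegral (R ⧸ I) (A ⧸ B) := Algebra.IsIntegral.tower_top R
  haveI : FaithfulSMul (R ⧸ I) (A ⧸ B) := (faithfulSMul_iff_algebraMap_injective _ _).2 Ideal.quotientMap_injective
  have hker : RingHom.ker (Ideal.Quotient.mk B) ≤ U := by rw [Ideal.mk_ker]; exact hBU
  haveI : (U.map (Ideal.Quotient.mk B)).IsPrime :=
    Ideal.map_isPrime_of_surjective Ideal.Quotient.mk_surjective hker
  haveI : (P.map (Ideal.Quotient.mk I)).IsPrime :=
    Ideal.map_isPrime_of_surjective Ideal.Quotient.mk_surjective (by rw [Ideal.mk_ker]; exact hB)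
  have hle : P.map (Ideal.Quotient.mk I) ≤ (U.map (Ideal.Quotient.mk B)).under (R ⧸ I) := by
    rw [Ideal.map_le_iff_le_comap]
    intro x hx
    exact Ideal.mem_map_of_mem _ (hP hx)
  obtain ⟨Q, hQU, hQ, hQl⟩ := Ideal.exists_ideal_le_liesOver_of_le
    (p := P.map (Ideal.Quotient.mk I)) (q := (U.map (Ideal.Quotient.mk B)).under (R ⧸ I))
    (U.map (Ideal.Quotient.mk B)) hle
  refine ⟨Q.comap (Ideal.Quotient.mk B), inferInstance, ?_, ?_, ?_⟩
  · intro x hx
    show Ideal.Quotient.mk B x ∈ Q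
    rw [Ideal.Quotient.eq_zero_iff_mem.2 hx]
    exact zero_mem _
  · refine (Ideal.comap_mono hQU).trans (le_of_eq ?_)
    rw [Ideal.comap_map_of_surjective _ Ideal.Quotient.mk_surjective, ← RingHom.ker_eq_comap_bot,
      Ideal.mk_ker, sup_eq_left.2 hBU]
  · have h1 : (Q.comap (Ideal.Quotient.mk B)).comap (algebraMap R A) =
        (Q.comap (algebraMap (R ⧸ I) (A ⧸ B))).comap (Ideal.Quotient.mk I) := rfl
    rw [h1, show Q.comap (algebraMap (R ⧸ I) (A ⧸ B)) = P.map (Ideal.Quotient.mk I) from hQl.over.symm,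
      Ideal.comap_map_of_surjective _ Ideal.Quotient.mk_surjective, ← RingHom.ker_eq_comap_bot,
      Ideal.mk_ker, sup_eq_left.2 hB]

variable {A : Type u} [CommRing A] [IsDomain A]

/-- The conditions on the prime at level `j`. -/
def LvlOK {d r : ℕ} [Algebra (MvPolynomial (Fin d) k) A] (q : Fin r → PrimeSpectrum A) (h : Fin r → ℕ) (j : ℕ)
    (Q : PrimeSpectrum A) : Prop :=
  Q.asIdeal.comap (algebraMap (MvPolynomial (Fin d) k) A) = XI k d j ∧
    (∀ i, h i ≤ j → q i ≤ Q) ∧ ∀ i, h i = j → Q = q i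

variable {d r : ℕ} [Algebra (MvPolynomial (Fin d) k) A] [Algebra.IsIntegral (MvPolynomial (Fin d) k) A]
  {q : Fin r → PrimeSpectrum A} {h : Fin r → ℕ}

theorem lvlOK_of_eq (hq : StrictMono q) (hh : StrictMono h)
    (hc : ∀ i, (q i).asIdeal.comap (algebraMap (MvPolynomial (Fin d) k) A) = XI k d (h i))
    {j : ℕ} (i : Fin r) (hi : h i = j) : LvlOK (k := k) (d := d) q h j (q i) :=
  ⟨hi ▸ hc i, fun l hl => hq.monotone (hh.le_iff_le.1 (hi ▸ hl)), fun l hl => congrArg q (hh.injective (hi.trans hl.symm))⟩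

theorem exists_base (hinj : Function.Injective (algebraMap (MvPolynomial (Fin d) k) A))
    (hq : Monotone q) (hc : ∀ i, (q i).asIdeal.comap (algebraMap (MvPolynomial (Fin d) k) A) = XI k d (h i))
    (j : ℕ) : ∃ (B : PrimeSpectrum A) (a : ℕ), a ≤ j ∧
      B.asIdeal.comap (algebraMap (MvPolynomial (Fin d) k) A) = XI k d a ∧
      (∀ i, h i ≤ j → q i ≤ B) ∧ (B = ⟨⊥, Ideal.isPrime_bot⟩ ∨ ∃ i, h i ≤ j ∧ B = q i) := by
  by_cases hs : ∃ i, h i ≤ j
  · obtain ⟨i1, hi1⟩ := hs
    obtain ⟨i, hi, hmax⟩ := Finset.exists_max_image (Finset.univ.filter fun i => h i ≤ j) id ⟨i1, by simp [hi1]⟩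
    have hi' : h i ≤ j := (Finset.mem_filter.1 hi).2
    exact ⟨q i, h i, hi', hc i, fun l hl => hq (hmax l (by simp [hl])), Or.inr ⟨i, hi', rfl⟩⟩
  · refine ⟨⟨⊥, Ideal.isPrime_bot⟩, 0, Nat.zero_le _, ?_, fun l hl => absurd ⟨l, hl⟩ hs, Or.inl rfl⟩
    rw [XI_zero]
    exact Ideal.comap_bot_of_injective _ hinj

theorem exists_top (hinj : Function.Injective (algebraMap (MvPolynomial (Fin d) k) A))
    (hq : StrictMono q) (hh : StrictMono h)
    (hc : ∀ i, (q i).asIdeal.comap (algebraMap (MvPolynomial (Fin d) k) A) = XI k d (h i)) :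
    ∃ Q, LvlOK (k := k) (d := d) q h d Q := by
  by_cases he : ∃ i, h i = d
  · obtain ⟨i, hi⟩ := he
    exact ⟨q i, lvlOK_of_eq hq hh hc i hi⟩
  · obtain ⟨B, a, ha, hB, hge, -⟩ := exists_base hinj hq.monotone hc d
    haveI := XI_isPrime (k := k) d d
    obtain ⟨Q, hQB, hQ, hQc⟩ := Ideal.exists_ideal_over_prime_of_isIntegral (XI k d d) B.asIdeal
      (hB ▸ XI_mono ha)
    exact ⟨⟨Q, hQ⟩, hQc, fun i hi => le_trans (hge i hi) hQB, fun i hi => absurd ⟨i, hi⟩ he⟩

theorem exists_down (hinj : Function.Injective (algebraMap (MvPolynomial (Fin d) k) A))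
    (hq : StrictMono q) (hh : StrictMono h)
    (hc : ∀ i, (q i).asIdeal.comap (algebraMap (MvPolynomial (Fin d) k) A) = XI k d (h i))
    (j : ℕ) (U : PrimeSpectrum A) (hU : LvlOK (k := k) (d := d) q h (j + 1) U) :
    ∃ Q, LvlOK (k := k) (d := d) q h j Q ∧ Q ≤ U := by
  by_cases he : ∃ i, h i = j
  · obtain ⟨i, hi⟩ := he
    exact ⟨q i, lvlOK_of_eq hq hh hc i hi, hU.2.1 i (by omega)⟩
  · obtain ⟨B, a, ha, hB, hge, hBq⟩ := exists_base hinj hq.monotone hc j
    have hBU : B ≤ U := by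
      rcases hBq with rfl | ⟨i, hi, rfl⟩
      · exact bot_le
      · exact hU.2.1 i (by omega)
    haveI := XI_isPrime (k := k) d j
    obtain ⟨Q, hQ, hQB, hQU, hQc⟩ := going_down B.asIdeal U.asIdeal (XI k d j) hBU (hB ▸ XI_mono ha)
      (hU.1 ▸ XI_mono (Nat.le_succ j)) (by rw [hB]; exact quotient_XI_normal d a)
    exact ⟨⟨Q, hQ⟩, ⟨hQc, fun i hi => le_trans (hge i hi) hQB, fun i hi => absurd ⟨i, hi⟩ he⟩, hQU⟩

theorem exists_chain (hinj : Function.Injective (algebraMap (MvPolynomial (Fin d) k) A))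
    (hq : StrictMono q) (hh : StrictMono h)
    (hc : ∀ i, (q i).asIdeal.comap (algebraMap (MvPolynomial (Fin d) k) A) = XI k d (h i)) :
    ∀ m, m ≤ d → ∃ Q : ℕ → PrimeSpectrum A, (∀ j, d - m ≤ j → j ≤ d → LvlOK (k := k) (d := d) q h j (Q j)) ∧
      (∀ j, d - m ≤ j → j < d → Q j ≤ Q (j + 1)) := by
  intro m
  induction m with
  | zero =>
    intro _
    obtain ⟨Q, hQ⟩ := exists_top hinj hq hh hc
    refine ⟨fun _ => Q, fun j h1 h2 => ?_, fun j h1 h2 => by omega⟩
    rwa [show j = d by omega]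
  | succ m ih =>
    intro hm
    obtain ⟨Q, h1, h2⟩ := ih (by omega)
    obtain ⟨Q', hQ', hle⟩ := exists_down hinj hq hh hc (d - (m + 1)) (Q (d - m))
      (by rw [show d - (m + 1) + 1 = d - m by omega]; exact h1 _ le_rfl (by omega))
    refine ⟨Function.update Q (d - (m + 1)) Q', fun j hj hj' => ?_, fun j hj hj' => ?_⟩
    · by_cases hjm : j = d - (m + 1)
      · subst hjm; rwa [Function.update_self]
      · rw [Function.update_of_ne hjm]; exact h1 j (by omega) hj'
    · rw [Function.update_of_ne (show j + 1 ≠ d - (m + 1) by omega)]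
      by_cases hjm : j = d - (m + 1)
      · subst hjm
        rw [Function.update_self, show d - (m + 1) + 1 = d - m by omega]
        exact hle
      · rw [Function.update_of_ne hjm]; exact h2 j (by omega) hj'

end Groth.Agent.NNAdapt
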